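import Groth.Agent.Calg2.TensorFP
import Groth.Prelude.Def_W4stkadequatePure
import Mathlib.LinearAlgebra.TensorProduct.Vanishing

/-! Pure exact sequences, pure projective and pure injective modules. -/

set_option autoImplicit false

universe u

open TensorProduct CAlgX

namespace Groth.Misc3Pure

variable {R : Type u} [CommRing R]

/-- `P` is pure projective. -/
def PureProj (P : Type u) [AddCommGroup P] [Module R P] : Prop :=
  ∀ ⦃L N : Type u⦄ [AddCommGroup L] [Module R L] [AddCommGroup N] [Module R N] (g : L →ₗ[R] N),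
    Function.Surjective g → UniversallyInjective R (LinearMap.ker g).subtype →
      ∀ φ : P →ₗ[R] N, ∃ ψ : P →ₗ[R] L, g ∘ₗ ψ = φ

/-- `I` is pure injective. -/
def PureInj (I : Type u) [AddCommGroup I] [Module R I] : Prop :=
  ∀ ⦃K L : Type u⦄ [AddCommGroup K] [Module R K] [AddCommGroup L] [Module R L] (f : K →ₗ[R] L),
    UniversallyInjective R f → ∀ φ : K →ₗ[R] I, ∃ ψ : L →ₗ[R] I, ψ ∘ₗ f = φ

section

variable {L N : Type u} [AddCommGroup L] [Module R L] [AddCommGroup N] [Module R N]

/-- Lifting from finitely presented modules makes the kernel pure. -/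
theorem univInj_ker_of_lift (g : L →ₗ[R] N)
    (h : ∀ (n m : ℕ) (c : Fin m → Fin n → R)
      (φ : ((Fin n → R) ⧸ Submodule.span R (Set.range c)) →ₗ[R] N), ∃ ψ, g ∘ₗ ψ = φ) :
    UniversallyInjective R (LinearMap.ker g).subtype := by
  classical
  intro Q _ _
  rw [← LinearMap.lTensor_inj_iff_rTensor_inj]
  refine Calg2.lTensor_injective_of_forall_fp _ fun P _ _ _ => (injective_iff_map_eq_zero _).2 fun x hx => ?_
  obtain ⟨n, p, hp⟩ := Module.Finite.exists_fin (R := R) (M := P)
  obtain ⟨q, rfl⟩ : ∃ q : Fin n → LinearMap.ker g, x = ∑ i, p i ⊗ₜ q i := by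
    clear hx
    induction x using TensorProduct.induction_on with
    | zero => exact ⟨0, by simp⟩
    | tmul a b =>
      obtain ⟨c, rfl⟩ := (Submodule.mem_span_range_iff_exists_fun R).1 (hp ▸ Submodule.mem_top : a ∈ _)
      exact ⟨fun i => c i • b, by simp [TensorProduct.sum_tmul, TensorProduct.smul_tmul]⟩
    | add a b ha hb =>
      obtain ⟨q, rfl⟩ := ha
      obtain ⟨q', rfl⟩ := hb
      exact ⟨q + q', by simp [TensorProduct.tmul_add, Finset.sum_add_distrib]⟩
  simp only [map_sum, LinearMap.lTensor_tmul, Submodule.subtype_apply] at hx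
  obtain ⟨k, a, y, hy, ha⟩ := TensorProduct.vanishesTrivially_of_sum_tmul_eq_zero R hp hx
  let c : Fin n → Fin k → R := a
  let φ : ((Fin k → R) ⧸ Submodule.span R (Set.range c)) →ₗ[R] N :=
    (Submodule.span R (Set.range c)).liftQ (Fintype.linearCombination R fun j => g (y j)) (by
      rw [Submodule.span_le]
      rintro _ ⟨i, rfl⟩
      simp only [c, SetLike.mem_coe, LinearMap.mem_ker, Fintype.linearCombination_apply, ← map_smul,
        ← map_sum, ← hy i]
      exact (q i).2)
  obtain ⟨ψ, hψ⟩ := h k n c φ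
  let z : Fin k → LinearMap.ker g := fun j => ⟨y j - ψ (Submodule.Quotient.mk (Pi.single j 1)), by
    rw [LinearMap.mem_ker, map_sub, sub_eq_zero]
    refine Eq.trans ?_ (LinearMap.congr_fun hψ _).symm
    simp [φ, Fintype.linearCombination_apply, Pi.single_apply]⟩
  refine TensorProduct.sum_tmul_eq_zero_of_vanishesTrivially R ⟨k, a, z, fun i => Subtype.ext ?_, ha⟩
  simp only [z, Submodule.coe_sum, Submodule.coe_smul, smul_sub, Finset.sum_sub_distrib, ← hy i, ← map_smul,
    ← map_sum, ← Submodule.mkQ_apply]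
  have hzero : (Submodule.span R (Set.range c)).mkQ (∑ j, a i j • Pi.single j 1) = 0 := by
    refine (Submodule.Quotient.mk_eq_zero _).2 (Submodule.subset_span ⟨i, ?_⟩)
    ext j
    simp [c, Finset.sum_apply, Pi.single_apply]
  rw [hzero, map_zero, sub_zero]

/-- Finitely presented modules lift along pure surjections. -/
theorem exists_lift_of_fp {P : Type u} [AddCommGroup P] [Module R P] [Module.FinitePresentation R P]
    (g : L →ₗ[R] N) (hg : Function.Surjective g) (hk : UniversallyInjective R (LinearMap.ker g).subtype)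
    (φ : P →ₗ[R] N) : ∃ ψ : P →ₗ[R] L, g ∘ₗ ψ = φ := by
  classical
  obtain ⟨n, m, π, rel, hπ, hex⟩ := Module.FinitePresentation.exists_fin' R P
  choose y hy using fun j => hg (φ (π (Pi.single j 1)))
  have key : ∀ v : Fin n → R, g (∑ j, v j • y j) = φ (π v) := fun v => by
    conv_rhs => rw [pi_eq_sum_univ' v, map_sum, map_sum]
    simp [hy]
  have hx : ∀ k, ∑ j, rel (Pi.single k 1) j • y j ∈ LinearMap.ker g := fun k => by
    rw [LinearMap.mem_ker, key, hex.apply_apply_eq_zero, map_zero]
  obtain ⟨z, hz⟩ := Calg2.exists_solution_of_ker_rTensor_le (LinearMap.ker g).subtype LinearMap.id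
    (fun X _ _ v hv => by
      rw [LinearMap.mem_ker] at hv
      simp [(injective_iff_map_eq_zero _).1 (hk X) v hv])
    (fun k => rel (Pi.single k 1)) (fun k => ⟨_, hx k⟩) y fun k => rfl
  let θ : (Fin n → R) →ₗ[R] L := Fintype.linearCombination R fun j => y j - (z j : L)
  have hθ : LinearMap.ker π ≤ LinearMap.ker θ := by
    have h0 : θ ∘ₗ rel = 0 := by
      refine LinearMap.pi_ext' fun k => LinearMap.ext_ring ?_
      have e : ∑ j, rel (Pi.single k 1) j • (z j : L) = ∑ j, rel (Pi.single k 1) j • y j := by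
        simpa using congrArg Subtype.val (hz k)
      simp only [LinearMap.coe_comp, Function.comp_apply, LinearMap.coe_single, θ,
        Fintype.linearCombination_apply, smul_sub, Finset.sum_sub_distrib, e, sub_self]
      simp
    rw [hex.linearMap_ker_eq]
    rintro _ ⟨v, rfl⟩
    simpa using LinearMap.congr_fun h0 v
  refine ⟨(LinearMap.ker π).liftQ θ hθ ∘ₗ (π.quotKerEquivOfSurjective hπ).symm.toLinearMap, ?_⟩
  rw [← LinearMap.cancel_right hπ]
  refine LinearMap.ext fun v => ?_
  have : (π.quotKerEquivOfSurjective hπ).symm (π v) = Submodule.Quotient.mk v :=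
    (π.quotKerEquivOfSurjective hπ).injective (by simp)
  simp only [LinearMap.coe_comp, Function.comp_apply, LinearEquiv.coe_coe, this, Submodule.liftQ_apply]
  rw [← key v]
  simp [θ, Fintype.linearCombination_apply, fun j => (z j).2]

end

theorem pureProj_of_summand {ι : Type u} {Q : ι → Type u} [∀ i, AddCommGroup (Q i)] [∀ i, Module R (Q i)]
    (hQ : ∀ i, Module.FinitePresentation R (Q i)) {P : Type u} [AddCommGroup P] [Module R P]
    (s : P →ₗ[R] (Π₀ i, Q i)) (r : (Π₀ i, Q i) →ₗ[R] P) (hrs : r ∘ₗ s = LinearMap.id) : PureProj (R := R) P := by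
  classical
  intro L N _ _ _ _ g hg hk φ
  choose ψ hψ using fun i => haveI := hQ i; exists_lift_of_fp g hg hk ((φ ∘ₗ r) ∘ₗ DFinsupp.lsingle i)
  refine ⟨DFinsupp.lsum ℕ ψ ∘ₗ s, ?_⟩
  have : g ∘ₗ DFinsupp.lsum ℕ ψ = φ ∘ₗ r := DFinsupp.lhom_ext' fun i => by
    rw [LinearMap.comp_assoc]
    have h1 : DFinsupp.lsum ℕ ψ ∘ₗ DFinsupp.lsingle i = ψ i :=
      LinearMap.ext fun x => DFinsupp.lsum_single ℕ ψ i x
    rw [h1, hψ i]
  rw [← LinearMap.comp_assoc, this, LinearMap.comp_assoc, hrs, LinearMap.comp_id]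

section

variable (M : Type u) [AddCommGroup M] [Module R M]

/-- Index of the canonical pure cover. -/
def CoverIndex (R : Type u) [CommRing R] (M : Type u) [AddCommGroup M] [Module R M] : Type u :=
  Σ p : ℕ × ℕ, Σ c : Fin p.2 → Fin p.1 → R, ((Fin p.1 → R) ⧸ Submodule.span R (Set.range c)) →ₗ[R] M

/-- The pure cover by finitely presented modules. -/
theorem exists_cover :
    ∃ (ι : Type u) (Q : ι → Type u) (_ : ∀ i, AddCommGroup (Q i)) (_ : ∀ i, Module R (Q i)),
      (∀ i, Module.FinitePresentation R (Q i)) ∧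
      ∃ g : (Π₀ i, Q i) →ₗ[R] M, Function.Surjective g ∧ UniversallyInjective R (LinearMap.ker g).subtype := by
  classical
  refine ⟨CoverIndex R M, fun i => (Fin i.1.1 → R) ⧸ Submodule.span R (Set.range i.2.1),
    inferInstance, inferInstance, fun i => ?_, DFinsupp.lsum ℕ fun i => i.2.2, ?_, ?_⟩
  · refine Module.finitePresentation_of_surjective (Submodule.mkQ _) (Submodule.mkQ_surjective _) ?_
    rw [Submodule.ker_mkQ]
    exact Submodule.fg_span (Set.finite_range _)
  · intro m
    let φ : ((Fin 1 → R) ⧸ Submodule.span R (Set.range (0 : Fin 0 → Fin 1 → R))) →ₗ[R] M :=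
      (Submodule.span R (Set.range (0 : Fin 0 → Fin 1 → R))).liftQ
        (Fintype.linearCombination R fun _ => m) (by simp [Set.range_eq_empty])
    refine ⟨DFinsupp.single (⟨(1, 0), 0, φ⟩ : CoverIndex R M) (Submodule.Quotient.mk fun _ => 1), ?_⟩
    rw [DFinsupp.lsum_single]
    simp [φ, Fintype.linearCombination_apply]
  · refine univInj_ker_of_lift _ fun n k c φ => ⟨DFinsupp.lsingle (R := R)
      (M := fun i : CoverIndex R M => (Fin i.1.1 → R) ⧸ Submodule.span R (Set.range i.2.1))
      (⟨(n, k), c, φ⟩ : CoverIndex R M), ?_⟩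
    refine LinearMap.ext fun x => ?_
    exact DFinsupp.lsum_single (R := R) ℕ (fun i : CoverIndex R M => i.2.2) ⟨(n, k), c, φ⟩ x

theorem pureProj_iff {P : Type u} [AddCommGroup P] [Module R P] :
    PureProj (R := R) P ↔
    ∃ (ι : Type u) (Q : ι → Type u) (_ : ∀ i, AddCommGroup (Q i)) (_ : ∀ i, Module R (Q i)),
      (∀ i, Module.FinitePresentation R (Q i)) ∧
      ∃ (s : P →ₗ[R] (Π₀ i, Q i)) (r : (Π₀ i, Q i) →ₗ[R] P), r ∘ₗ s = LinearMap.id := by
  refine ⟨fun h => ?_, fun ⟨_, Q, _, _, hQ, s, r, hrs⟩ => pureProj_of_summand hQ s r hrs⟩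
  obtain ⟨ι, Q, _, _, hQ, g, hg, hk⟩ := exists_cover (R := R) P
  obtain ⟨s, hs⟩ := h g hg hk LinearMap.id
  exact ⟨ι, Q, inferInstance, inferInstance, hQ, s, g, hs⟩

/-- Character modules are pure injective. -/
theorem pureInj_characterModule : PureInj (R := R) (CharacterModule M) := fun _ _ _ _ _ _ f hf φ =>
  rTensor_injective_iff_lcomp_surjective.1 (hf M) φ

/-- The evaluation map is universally injective. -/
theorem univInj_charEval : UniversallyInjective R (PureExt.charEval R M) := by
  intro Q _ _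
  rw [rTensor_injective_iff_lcomp_surjective]
  intro h
  refine ⟨CharacterModule.dual (PureExt.charEval R Q) ∘ₗ CharacterModule.dual (CharacterModule.dual h), ?_⟩
  ext m q
  rfl

variable {I : Type u} [AddCommGroup I] [Module R I]

theorem pureInj_iff :
    PureInj (R := R) I ↔ ∃ r : CharacterModule (CharacterModule I) →ₗ[R] I, r ∘ₗ PureExt.charEval R I = LinearMap.id := by
  refine ⟨fun h => h _ (univInj_charEval I) LinearMap.id, fun ⟨r, hr⟩ K L _ _ _ _ f hf φ => ?_⟩
  obtain ⟨ψ, hψ⟩ := pureInj_characterModule (R := R) (CharacterModule I) f hf (PureExt.charEval R I ∘ₗ φ)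
  exact ⟨r ∘ₗ ψ, by rw [LinearMap.comp_assoc, hψ, ← LinearMap.comp_assoc, hr, LinearMap.id_comp]⟩

/-- In a universally exact sequence the image of the second map is pure. -/
theorem univInj_range {L M N : Type u} [AddCommGroup L] [Module R L] [AddCommGroup M] [Module R M]
    [AddCommGroup N] [Module R N] (f : L →ₗ[R] M) (g : M →ₗ[R] N)
    (h : ∀ (Q : Type u) [AddCommGroup Q] [Module R Q], Function.Exact (f.rTensor Q) (g.rTensor Q)) :
    UniversallyInjective R (LinearMap.range g).subtype := by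
  intro Q _ _
  have hgf : ∀ x, g (f x) = 0 := fun x => by
    have := (h R).apply_apply_eq_zero (x ⊗ₜ (1 : R))
    simpa using congrArg (TensorProduct.rid R N) this
  refine (injective_iff_map_eq_zero _).2 fun z hz => ?_
  obtain ⟨w, rfl⟩ := LinearMap.rTensor_surjective Q g.surjective_rangeRestrict z
  rw [← LinearMap.rTensor_comp_apply, LinearMap.subtype_comp_codRestrict] at hz
  obtain ⟨v, rfl⟩ := (h Q w).1 hz
  rw [← LinearMap.rTensor_comp_apply, show g.rangeRestrict ∘ₗ f = 0 from LinearMap.ext fun x => Subtype.ext (hgf x)]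
  simp

end

end Groth.Misc3Pure
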