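import Groth.Agent.Misc3Pure.Basic

/-! Universally exact resolutions by complexes of modules. -/

set_option autoImplicit false

universe u v

open CategoryTheory CategoryTheory.Limits CategoryTheory.MonoidalCategory TensorProduct

namespace Groth.Misc3Pure

section

variable {C : Type*} [Category.{v} C] [Abelian C]

theorem quasiIso_down_iff {K L : ChainComplex C ℕ} (φ : K ⟶ L) (hL : ∀ n, IsZero (L.X (n + 1))) :
    QuasiIso φ ↔ (∀ n, (ShortComplex.mk _ _ (K.d_comp_d (n + 2) (n + 1) n)).Exact) ∧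
      (ShortComplex.mk (K.d 1 0) (φ.f 0) (by rw [← φ.comm 1 0, (hL 0).eq_of_src (L.d 1 0) 0, comp_zero])).Exact ∧
      Epi (φ.f 0) := by
  have h0 : QuasiIsoAt φ 0 ↔
      (ShortComplex.mk (K.d 1 0) (φ.f 0) (by rw [← φ.comm 1 0, (hL 0).eq_of_src (L.d 1 0) 0, comp_zero])).Exact ∧
        Epi (φ.f 0) := by
    rw [ChainComplex.quasiIsoAt₀_iff]
    refine ShortComplex.quasiIso_iff_of_zeros' _ ?_ ?_ ?_
    · exact K.shape 0 0 (by simp)
    · exact (hL 0).eq_of_src _ _
    · exact L.shape 0 0 (by simp)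
  have hs : ∀ n, QuasiIsoAt φ (n + 1) ↔ (ShortComplex.mk _ _ (K.d_comp_d (n + 2) (n + 1) n)).Exact := fun n => by
    rw [quasiIsoAt_iff_exactAt' φ (n + 1) (ShortComplex.exact_of_isZero_X₂ _ (hL n)),
      HomologicalComplex.exactAt_iff' K (n + 2) (n + 1) n (by simp) (by simp)]
    rfl
  rw [quasiIso_iff]
  exact ⟨fun h => ⟨fun n => (hs n).1 (h _), h0.1 (h 0)⟩,
    fun h => fun i => match i with
      | 0 => h0.2 h.2
      | n + 1 => (hs n).2 (h.1 n)⟩

theorem quasiIso_up_iff {K L : CochainComplex C ℕ} (φ : L ⟶ K) (hL : ∀ n, IsZero (L.X (n + 1))) :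
    QuasiIso φ ↔ (∀ n, (ShortComplex.mk _ _ (K.d_comp_d n (n + 1) (n + 2))).Exact) ∧
      (ShortComplex.mk (φ.f 0) (K.d 0 1) (by rw [φ.comm 0 1, (hL 0).eq_of_tgt (L.d 0 1) 0, zero_comp])).Exact ∧
      Mono (φ.f 0) := by
  have h0 : QuasiIsoAt φ 0 ↔
      (ShortComplex.mk (φ.f 0) (K.d 0 1) (by rw [φ.comm 0 1, (hL 0).eq_of_tgt (L.d 0 1) 0, zero_comp])).Exact ∧
        Mono (φ.f 0) := by
    rw [CochainComplex.quasiIsoAt₀_iff]
    refine ShortComplex.quasiIso_iff_of_zeros _ ?_ ?_ ?_
    · exact L.shape 0 0 (by simp)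
    · exact (hL 0).eq_of_tgt _ _
    · exact K.shape 0 0 (by simp)
  have hs : ∀ n, QuasiIsoAt φ (n + 1) ↔ (ShortComplex.mk _ _ (K.d_comp_d n (n + 1) (n + 2))).Exact := fun n => by
    rw [quasiIsoAt_iff_exactAt φ (n + 1) (ShortComplex.exact_of_isZero_X₂ _ (hL n)),
      HomologicalComplex.exactAt_iff' K n (n + 1) (n + 2) (by simp) (by simp)]
    rfl
  rw [quasiIso_iff]
  exact ⟨fun h => ⟨fun n => (hs n).1 (h _), h0.1 (h 0)⟩,
    fun h => fun i => match i with
      | 0 => h0.2 h.2
      | n + 1 => (hs n).2 (h.1 n)⟩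

end

variable {R : Type u} [CommRing R]

/-- A universally exact left resolution. -/
theorem univExact_down_iff {M : ModuleCat.{u} R} (P : ChainComplex (ModuleCat.{u} R) ℕ)
    (π : P ⟶ (ChainComplex.single₀ (ModuleCat.{u} R)).obj M) :
    (∀ T : ModuleCat.{u} R, QuasiIso (((tensorRight T).mapHomologicalComplex (ComplexShape.down ℕ)).map π)) ↔
      ∀ (Q : Type u) [AddCommGroup Q] [Module R Q],
        (∀ n, Function.Exact ((P.d (n + 2) (n + 1)).hom.rTensor Q) ((P.d (n + 1) n).hom.rTensor Q)) ∧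
        Function.Exact ((P.d 1 0).hom.rTensor Q) ((π.f 0).hom.rTensor Q) ∧
        Function.Surjective ((π.f 0).hom.rTensor Q) := by
  have key : ∀ T : ModuleCat.{u} R,
      QuasiIso (((tensorRight T).mapHomologicalComplex (ComplexShape.down ℕ)).map π) ↔
        (∀ n, Function.Exact ((P.d (n + 2) (n + 1)).hom.rTensor T) ((P.d (n + 1) n).hom.rTensor T)) ∧
        Function.Exact ((P.d 1 0).hom.rTensor T) ((π.f 0).hom.rTensor T) ∧
        Function.Surjective ((π.f 0).hom.rTensor T) := fun T => by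
    rw [quasiIso_down_iff _ fun n => (tensorRight T).map_isZero
      (HomologicalComplex.isZero_single_obj_X (ComplexShape.down ℕ) 0 M (n + 1) (Nat.succ_ne_zero n))]
    refine and_congr (forall_congr' fun n => ?_) (and_congr ?_ ?_)
    · exact ShortComplex.ShortExact.moduleCat_exact_iff_function_exact _
    · exact ShortComplex.ShortExact.moduleCat_exact_iff_function_exact _
    · exact ModuleCat.epi_iff_surjective _
  exact ⟨fun h Q _ _ => (key (ModuleCat.of R Q)).1 (h _), fun h T => (key T).2 (h T)⟩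

/-- A universally exact right resolution. -/
theorem univExact_up_iff {M : ModuleCat.{u} R} (I : CochainComplex (ModuleCat.{u} R) ℕ)
    (η : (CochainComplex.single₀ (ModuleCat.{u} R)).obj M ⟶ I) :
    (∀ T : ModuleCat.{u} R, QuasiIso (((tensorRight T).mapHomologicalComplex (ComplexShape.up ℕ)).map η)) ↔
      ∀ (Q : Type u) [AddCommGroup Q] [Module R Q],
        (∀ n, Function.Exact ((I.d n (n + 1)).hom.rTensor Q) ((I.d (n + 1) (n + 2)).hom.rTensor Q)) ∧
        Function.Exact ((η.f 0).hom.rTensor Q) ((I.d 0 1).hom.rTensor Q) ∧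
        Function.Injective ((η.f 0).hom.rTensor Q) := by
  have key : ∀ T : ModuleCat.{u} R,
      QuasiIso (((tensorRight T).mapHomologicalComplex (ComplexShape.up ℕ)).map η) ↔
        (∀ n, Function.Exact ((I.d n (n + 1)).hom.rTensor T) ((I.d (n + 1) (n + 2)).hom.rTensor T)) ∧
        Function.Exact ((η.f 0).hom.rTensor T) ((I.d 0 1).hom.rTensor T) ∧
        Function.Injective ((η.f 0).hom.rTensor T) := fun T => by
    rw [quasiIso_up_iff _ fun n => (tensorRight T).map_isZero
      (HomologicalComplex.isZero_single_obj_X (ComplexShape.up ℕ) 0 M (n + 1) (Nat.succ_ne_zero n))]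
    refine and_congr (forall_congr' fun n => ?_) (and_congr ?_ ?_)
    · exact ShortComplex.ShortExact.moduleCat_exact_iff_function_exact _
    · exact ShortComplex.ShortExact.moduleCat_exact_iff_function_exact _
    · exact ModuleCat.mono_iff_injective _
  exact ⟨fun h Q _ _ => (key (ModuleCat.of R Q)).1 (h _), fun h T => (key T).2 (h T)⟩

end Groth.Misc3Pure
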