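import Groth.Agent.Misc3Pure.Complex

/-! Pure projective and pure injective resolutions. -/

set_option autoImplicit false

universe u

open CategoryTheory CategoryTheory.Limits CategoryTheory.MonoidalCategory TensorProduct CAlgX

namespace Groth.Misc3Pure

variable {R : Type u} [CommRing R] {A B C D : Type u} [AddCommGroup A] [Module R A] [AddCommGroup B]
  [Module R B] [AddCommGroup C] [Module R C] [AddCommGroup D] [Module R D]

theorem exact_of_rTensor_self {f : A →ₗ[R] B} {g : B →ₗ[R] C}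
    (h : Function.Exact (f.rTensor R) (g.rTensor R)) : Function.Exact f g :=
  (Function.Exact.iff_of_ladder_linearEquiv (e₁ := TensorProduct.rid R A) (e₂ := TensorProduct.rid R B)
    (e₃ := TensorProduct.rid R C) (f₁₂ := f.rTensor R) (f₂₃ := g.rTensor R) (g₁₂ := f) (g₂₃ := g)
    (TensorProduct.ext' fun a r => by simp) (TensorProduct.ext' fun a r => by simp)).2 h

theorem surjective_of_rTensor_self {f : A →ₗ[R] B} (h : Function.Surjective (f.rTensor R)) :
    Function.Surjective f := fun b => by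
  obtain ⟨t, ht⟩ := h (b ⊗ₜ 1)
  refine ⟨TensorProduct.rid R A t, ?_⟩
  have key : ∀ t, f (TensorProduct.rid R A t) = TensorProduct.rid R B (f.rTensor R t) := fun t => by
    induction t using TensorProduct.induction_on with
    | zero => simp
    | tmul a r => simp
    | add a b ha hb => simp [ha, hb]
  rw [key, ht]
  simp

/-- Lifting a map from a pure projective module through a universally exact sequence. -/
theorem exists_lift {X : Type u} [AddCommGroup X] [Module R X] (hX : PureProj (R := R) X)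
    (j : A →ₗ[R] B) (k : B →ₗ[R] C)
    (hjk : ∀ (Q : Type u) [AddCommGroup Q] [Module R Q], Function.Exact (j.rTensor Q) (k.rTensor Q))
    (f : C →ₗ[R] D) (hkf : Function.Exact k f) (φ : X →ₗ[R] D) (hφ : ∀ x, φ x ∈ LinearMap.range f) :
    ∃ ψ : X →ₗ[R] C, f ∘ₗ ψ = φ := by
  have hker : LinearMap.ker f.rangeRestrict = LinearMap.range k := by
    rw [LinearMap.ker_rangeRestrict, hkf.linearMap_ker_eq]
  obtain ⟨ψ, hψ⟩ := hX f.rangeRestrict f.surjective_rangeRestrict (by rw [hker]; exact univInj_range j k hjk)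
    (φ.codRestrict _ hφ)
  exact ⟨ψ, LinearMap.ext fun x => congrArg Subtype.val (LinearMap.congr_fun hψ x)⟩

/-- Extending a map to a pure injective module along a universally exact sequence. -/
theorem exists_extend {X : Type u} [AddCommGroup X] [Module R X] (hX : PureInj (R := R) X)
    (i : A →ₗ[R] B) (k : B →ₗ[R] C)
    (hik : ∀ (Q : Type u) [AddCommGroup Q] [Module R Q], Function.Exact (i.rTensor Q) (k.rTensor Q))
    (φ : B →ₗ[R] X) (hφ : φ ∘ₗ i = 0) : ∃ ψ : C →ₗ[R] X, ψ ∘ₗ k = φ := by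
  have hle : LinearMap.ker k ≤ LinearMap.ker φ := fun b hb => by
    obtain ⟨a, rfl⟩ := (exact_of_rTensor_self (hik R) b).1 hb
    exact LinearMap.congr_fun hφ a
  obtain ⟨ψ, hψ⟩ := hX (LinearMap.range k).subtype (univInj_range i k hik)
    ((LinearMap.ker k).liftQ φ hle ∘ₗ k.quotKerEquivRange.symm.toLinearMap)
  refine ⟨ψ, LinearMap.ext fun b => (LinearMap.congr_fun hψ ⟨k b, b, rfl⟩).trans ?_⟩
  simp [LinearMap.quotKerEquivRange_symm_apply_image]

/-- Lifting of maps between complexes. -/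
theorem exists_lift_complex {M N : ModuleCat.{u} R} (f : M ⟶ N) (P N' : ChainComplex (ModuleCat.{u} R) ℕ)
    (π : P ⟶ (ChainComplex.single₀ (ModuleCat.{u} R)).obj M)
    (ε : N' ⟶ (ChainComplex.single₀ (ModuleCat.{u} R)).obj N) (hP : ∀ n, PureProj (R := R) (P.X n))
    (hN' : ∀ T : ModuleCat.{u} R, QuasiIso (((tensorRight T).mapHomologicalComplex (ComplexShape.down ℕ)).map ε)) :
    ∃ φ : P ⟶ N', φ ≫ ε = π ≫ (ChainComplex.single₀ (ModuleCat.{u} R)).map f := by
  have h := (univExact_down_iff N' ε).1 hN'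
  have e0 := exact_of_rTensor_self (h R).2.1
  have es := surjective_of_rTensor_self (h R).2.2
  have en := fun n => exact_of_rTensor_self ((h R).1 n)
  let f₀ := π.f 0 ≫ ((ChainComplex.single₀ (ModuleCat.{u} R)).map f).f 0
  obtain ⟨z, hz⟩ := exists_lift (hP 0) (N'.d 2 1).hom (N'.d 1 0).hom (fun Q _ _ => (h Q).1 0)
    (ε.f 0).hom e0 f₀.hom fun x => es _
  have hz' : ModuleCat.ofHom z ≫ ε.f 0 = f₀ := ModuleCat.hom_ext hz
  obtain ⟨o, ho⟩ := exists_lift (hP 1) (N'.d 3 2).hom (N'.d 2 1).hom (fun Q _ _ => (h Q).1 1)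
    (N'.d 1 0).hom (en 0) (P.d 1 0 ≫ ModuleCat.ofHom z).hom fun x => (e0 _).1 (by
      have h2 : (P.d 1 0 ≫ ModuleCat.ofHom z) ≫ ε.f 0 = 0 := by
        rw [Category.assoc, hz', ← Category.assoc, ← π.comm 1 0,
          (HomologicalComplex.isZero_single_obj_X (ComplexShape.down ℕ) 0 M 1 one_ne_zero).eq_of_tgt (π.f 1) 0,
          zero_comp, zero_comp]
      exact LinearMap.congr_fun (congrArg ModuleCat.Hom.hom h2) x)
  refine ⟨ChainComplex.mkHom _ _ (ModuleCat.ofHom z) (ModuleCat.ofHom o) (ModuleCat.hom_ext ho) ?_, ?_⟩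
  · rintro n ⟨a, b, w⟩
    have hex := exists_lift (hP (n + 2)) (N'.d (n + 4) (n + 3)).hom (N'.d (n + 3) (n + 2)).hom
      (fun Q _ _ => (h Q).1 (n + 2)) (N'.d (n + 2) (n + 1)).hom (en (n + 1)) (P.d (n + 2) (n + 1) ≫ b).hom
      fun x => ((en n) _).1 (by
        have h2 : (P.d (n + 2) (n + 1) ≫ b) ≫ N'.d (n + 1) n = 0 := by
          rw [Category.assoc, w, ← Category.assoc, P.d_comp_d, zero_comp]
        exact LinearMap.congr_fun (congrArg ModuleCat.Hom.hom h2) x)
    exact ⟨ModuleCat.ofHom hex.choose, ModuleCat.hom_ext hex.choose_spec⟩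
  · apply HomologicalComplex.to_single_hom_ext
    exact hz'

theorem homotopic_zero_down {N : ModuleCat.{u} R} (P N' : ChainComplex (ModuleCat.{u} R) ℕ)
    (ε : N' ⟶ (ChainComplex.single₀ (ModuleCat.{u} R)).obj N) (hP : ∀ n, PureProj (R := R) (P.X n))
    (hN' : ∀ T : ModuleCat.{u} R, QuasiIso (((tensorRight T).mapHomologicalComplex (ComplexShape.down ℕ)).map ε))
    (e : P ⟶ N') (he : e ≫ ε = 0) : Nonempty (Homotopy e 0) := by
  have h := (univExact_down_iff N' ε).1 hN'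
  have e0 := exact_of_rTensor_self (h R).2.1
  have en := fun n => exact_of_rTensor_self ((h R).1 n)
  obtain ⟨z, hz⟩ := exists_lift (hP 0) (N'.d 3 2).hom (N'.d 2 1).hom (fun Q _ _ => (h Q).1 1)
    (N'.d 1 0).hom (en 0) (e.f 0).hom fun x => (e0 _).1
      (LinearMap.congr_fun (congrArg ModuleCat.Hom.hom (HomologicalComplex.congr_hom he 0)) x)
  have hz' : ModuleCat.ofHom z ≫ N'.d 1 0 = e.f 0 := ModuleCat.hom_ext hz
  obtain ⟨o, ho⟩ := exists_lift (hP 1) (N'.d 4 3).hom (N'.d 3 2).hom (fun Q _ _ => (h Q).1 2)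
    (N'.d 2 1).hom (en 1) (e.f 1 - P.d 1 0 ≫ ModuleCat.ofHom z).hom fun x => (en 0 _).1 (by
      have h2 : (e.f 1 - P.d 1 0 ≫ ModuleCat.ofHom z) ≫ N'.d 1 0 = 0 := by
        rw [Preadditive.sub_comp, Category.assoc, hz', e.comm 1 0, sub_self]
      exact LinearMap.congr_fun (congrArg ModuleCat.Hom.hom h2) x)
  have ho' : ModuleCat.ofHom o ≫ N'.d 2 1 = e.f 1 - P.d 1 0 ≫ ModuleCat.ofHom z := ModuleCat.hom_ext ho
  refine ⟨Homotopy.mkInductive e (ModuleCat.ofHom z) hz'.symm (ModuleCat.ofHom o) (by rw [ho']; abel) ?_⟩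
  rintro n ⟨a, b, w⟩
  have hex := exists_lift (hP (n + 2)) (N'.d (n + 5) (n + 4)).hom (N'.d (n + 4) (n + 3)).hom
    (fun Q _ _ => (h Q).1 (n + 3)) (N'.d (n + 3) (n + 2)).hom (en (n + 2))
    (e.f (n + 2) - P.d (n + 2) (n + 1) ≫ b).hom fun x => ((en (n + 1)) _).1 (by
      have h2 : (e.f (n + 2) - P.d (n + 2) (n + 1) ≫ b) ≫ N'.d (n + 2) (n + 1) = 0 := by
        rw [Preadditive.sub_comp, Category.assoc, e.comm (n + 2) (n + 1), w, Preadditive.comp_add,
          ← Category.assoc, P.d_comp_d, zero_comp, zero_add, sub_self]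
      exact LinearMap.congr_fun (congrArg ModuleCat.Hom.hom h2) x)
  refine ⟨ModuleCat.ofHom hex.choose, ?_⟩
  have h3 : ModuleCat.ofHom hex.choose ≫ N'.d (n + 3) (n + 2) = e.f (n + 2) - P.d (n + 2) (n + 1) ≫ b :=
    ModuleCat.hom_ext hex.choose_spec
  rw [h3]; abel

/-- Extension of maps between complexes. -/
theorem exists_extend_complex {M N : ModuleCat.{u} R} (f : M ⟶ N) (M' I : CochainComplex (ModuleCat.{u} R) ℕ)
    (η : (CochainComplex.single₀ (ModuleCat.{u} R)).obj M ⟶ M')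
    (ε : (CochainComplex.single₀ (ModuleCat.{u} R)).obj N ⟶ I) (hI : ∀ n, PureInj (R := R) (I.X n))
    (hM' : ∀ T : ModuleCat.{u} R, QuasiIso (((tensorRight T).mapHomologicalComplex (ComplexShape.up ℕ)).map η)) :
    ∃ φ : M' ⟶ I, η ≫ φ = (CochainComplex.single₀ (ModuleCat.{u} R)).map f ≫ ε := by
  have h := (univExact_up_iff M' η).1 hM'
  let f₀ := ((CochainComplex.single₀ (ModuleCat.{u} R)).map f).f 0 ≫ ε.f 0
  obtain ⟨z, hz⟩ := hI 0 (η.f 0).hom (fun Q _ _ => (h Q).2.2) f₀.hom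
  have hz' : η.f 0 ≫ ModuleCat.ofHom z = f₀ := ModuleCat.hom_ext hz
  obtain ⟨o, ho⟩ := exists_extend (hI 1) (η.f 0).hom (M'.d 0 1).hom (fun Q _ _ => (h Q).2.1)
    (ModuleCat.ofHom z ≫ I.d 0 1).hom (by
      have h2 : η.f 0 ≫ (ModuleCat.ofHom z ≫ I.d 0 1) = 0 := by
        rw [← Category.assoc, hz', Category.assoc, ε.comm 0 1,
          (HomologicalComplex.isZero_single_obj_X (ComplexShape.up ℕ) 0 N 1 one_ne_zero).eq_of_src (ε.f 1) 0,
          comp_zero, comp_zero]
      exact congrArg ModuleCat.Hom.hom h2)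
  refine ⟨CochainComplex.mkHom _ _ (ModuleCat.ofHom z) (ModuleCat.ofHom o) (ModuleCat.hom_ext ho.symm) ?_, ?_⟩
  · rintro n ⟨a, b, w⟩
    have hex := exists_extend (hI (n + 2)) (M'.d n (n + 1)).hom (M'.d (n + 1) (n + 2)).hom (fun Q _ _ => (h Q).1 n)
      (b ≫ I.d (n + 1) (n + 2)).hom (by
        have h2 : M'.d n (n + 1) ≫ (b ≫ I.d (n + 1) (n + 2)) = 0 := by
          rw [← Category.assoc, ← w, Category.assoc, I.d_comp_d, comp_zero]
        exact congrArg ModuleCat.Hom.hom h2)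
    exact ⟨ModuleCat.ofHom hex.choose, ModuleCat.hom_ext hex.choose_spec.symm⟩
  · apply HomologicalComplex.from_single_hom_ext
    exact hz'

theorem homotopic_zero_up {M : ModuleCat.{u} R} (M' I : CochainComplex (ModuleCat.{u} R) ℕ)
    (η : (CochainComplex.single₀ (ModuleCat.{u} R)).obj M ⟶ M') (hI : ∀ n, PureInj (R := R) (I.X n))
    (hM' : ∀ T : ModuleCat.{u} R, QuasiIso (((tensorRight T).mapHomologicalComplex (ComplexShape.up ℕ)).map η))
    (e : M' ⟶ I) (he : η ≫ e = 0) : Nonempty (Homotopy e 0) := by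
  have h := (univExact_up_iff M' η).1 hM'
  obtain ⟨z, hz⟩ := exists_extend (hI 0) (η.f 0).hom (M'.d 0 1).hom (fun Q _ _ => (h Q).2.1) (e.f 0).hom
    (congrArg ModuleCat.Hom.hom (HomologicalComplex.congr_hom he 0))
  have hz' : M'.d 0 1 ≫ ModuleCat.ofHom z = e.f 0 := ModuleCat.hom_ext hz
  obtain ⟨o, ho⟩ := exists_extend (hI 1) (M'.d 0 1).hom (M'.d 1 2).hom (fun Q _ _ => (h Q).1 0)
    (e.f 1 - ModuleCat.ofHom z ≫ I.d 0 1).hom (by
      have h2 : M'.d 0 1 ≫ (e.f 1 - ModuleCat.ofHom z ≫ I.d 0 1) = 0 := by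
        rw [Preadditive.comp_sub, ← Category.assoc, hz', e.comm 0 1, sub_self]
      exact congrArg ModuleCat.Hom.hom h2)
  have ho' : M'.d 1 2 ≫ ModuleCat.ofHom o = e.f 1 - ModuleCat.ofHom z ≫ I.d 0 1 := ModuleCat.hom_ext ho
  refine ⟨Homotopy.mkCoinductive e (ModuleCat.ofHom z) hz'.symm (ModuleCat.ofHom o) (by rw [ho']; abel) ?_⟩
  rintro n ⟨a, b, w⟩
  have hex := exists_extend (hI (n + 2)) (M'.d (n + 1) (n + 2)).hom (M'.d (n + 2) (n + 3)).hom
    (fun Q _ _ => (h Q).1 (n + 1)) (e.f (n + 2) - b ≫ I.d (n + 1) (n + 2)).hom (by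
      have h2 : M'.d (n + 1) (n + 2) ≫ (e.f (n + 2) - b ≫ I.d (n + 1) (n + 2)) = 0 := by
        rw [Preadditive.comp_sub, ← e.comm (n + 1) (n + 2), w, Preadditive.add_comp, Category.assoc,
          I.d_comp_d, comp_zero, zero_add, Category.assoc, sub_self]
      exact congrArg ModuleCat.Hom.hom h2)
  refine ⟨ModuleCat.ofHom hex.choose, ?_⟩
  have h3 : M'.d (n + 2) (n + 3) ≫ ModuleCat.ofHom hex.choose = e.f (n + 2) - b ≫ I.d (n + 1) (n + 2) :=
    ModuleCat.hom_ext hex.choose_spec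
  rw [h3]; abel

/-- A module with a pure cover. -/
structure Cov (M : ModuleCat.{u} R) where
  X : ModuleCat.{u} R
  g : X ⟶ M
  surj : Function.Surjective g.hom
  pure : UniversallyInjective R (LinearMap.ker g.hom).subtype
  summand : ∃ (ι : Type u) (Q : ι → Type u) (_ : ∀ i, AddCommGroup (Q i)) (_ : ∀ i, Module R (Q i)),
      (∀ i, Module.FinitePresentation R (Q i)) ∧
      ∃ (s : X →ₗ[R] (Π₀ i, Q i)) (r : (Π₀ i, Q i) →ₗ[R] X), r ∘ₗ s = LinearMap.id

theorem nonempty_cov (M : ModuleCat.{u} R) : Nonempty (Cov M) := by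
  obtain ⟨ι, Q, _, _, hQ, g, hg, hk⟩ := exists_cover (R := R) M
  exact ⟨⟨ModuleCat.of R (Π₀ i, Q i), ModuleCat.ofHom g, hg, hk,
    ι, Q, inferInstance, inferInstance, hQ, LinearMap.id, LinearMap.id, rfl⟩⟩

noncomputable def cov (M : ModuleCat.{u} R) : Cov M := (nonempty_cov M).some

/-- The successive kernels. -/
noncomputable def syz (M : ModuleCat.{u} R) : ℕ → ModuleCat.{u} R
  | 0 => M
  | n + 1 => ModuleCat.of R (LinearMap.ker (cov (syz M n)).g.hom)

theorem exists_pureProj_resolution (M : ModuleCat.{u} R) :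
    ∃ (P : ChainComplex (ModuleCat.{u} R) ℕ) (π : P ⟶ (ChainComplex.single₀ (ModuleCat.{u} R)).obj M),
      (∀ n : ℕ, ∃ (ι : Type u) (Q : ι → Type u) (_ : ∀ i, AddCommGroup (Q i)) (_ : ∀ i, Module R (Q i)),
        (∀ i, Module.FinitePresentation R (Q i)) ∧
        ∃ (s : P.X n →ₗ[R] (Π₀ i, Q i)) (r : (Π₀ i, Q i) →ₗ[R] P.X n), r ∘ₗ s = LinearMap.id) ∧
      ∀ N : ModuleCat.{u} R, QuasiIso (((tensorRight N).mapHomologicalComplex (ComplexShape.down ℕ)).map π) := by
  let X : ℕ → ModuleCat.{u} R := fun n => (cov (syz M n)).X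
  let i : ∀ n, syz M (n + 1) ⟶ X n := fun n => ModuleCat.ofHom (LinearMap.ker (cov (syz M n)).g.hom).subtype
  have hig : ∀ n, i n ≫ (cov (syz M n)).g = 0 := fun n => ModuleCat.hom_ext (LinearMap.ext fun x => x.2)
  let d : ∀ n, X (n + 1) ⟶ X n := fun n => (cov (syz M (n + 1))).g ≫ i n
  have hdd : ∀ n, d (n + 1) ≫ d n = 0 := fun n => by simp [d, reassoc_of% hig (n + 1)]
  let P := ChainComplex.of X d hdd
  have hd : ∀ n, P.d (n + 1) n = d n := fun n => ChainComplex.of_d X d n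
  let π : P ⟶ (ChainComplex.single₀ (ModuleCat.{u} R)).obj M :=
    (ChainComplex.toSingle₀Equiv P M).symm ⟨(cov (syz M 0)).g, by
      rw [hd]
      show ((cov (syz M 1)).g ≫ i 0) ≫ (cov (syz M 0)).g = 0
      rw [Category.assoc, hig, comp_zero]⟩
  refine ⟨P, π, fun n => (cov (syz M n)).summand, (univExact_down_iff P π).2 fun Q _ _ => ?_⟩
  have hπ : π.f 0 = (cov (syz M 0)).g := by simp [π]
  have key : ∀ n, Function.Exact ((d n).hom.rTensor Q) ((cov (syz M n)).g.hom.rTensor Q) := fun n x => by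
    rw [(rTensor_exact (R := R) Q (LinearMap.exact_subtype_ker_map (cov (syz M n)).g.hom) (cov (syz M n)).surj) x]
    show x ∈ Set.range _ ↔ x ∈ Set.range ((((LinearMap.ker (cov (syz M n)).g.hom).subtype) ∘ₗ
      (cov (syz M (n + 1))).g.hom).rTensor Q)
    rw [LinearMap.rTensor_comp, LinearMap.coe_comp]
    exact (Set.ext_iff.1 ((LinearMap.rTensor_surjective Q (cov (syz M (n + 1))).surj).range_comp _) x).symm
  refine ⟨fun n => ?_, ?_, ?_⟩
  · rw [hd, hd]
    intro x
    rw [← key (n + 1) x]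
    show (((LinearMap.ker (cov (syz M n)).g.hom).subtype) ∘ₗ (cov (syz M (n + 1))).g.hom).rTensor Q x = 0 ↔ _
    rw [LinearMap.rTensor_comp, LinearMap.comp_apply]
    exact map_eq_zero_iff _ ((cov (syz M n)).pure Q)
  · rw [hd, hπ]; exact key 0
  · rw [hπ]; exact LinearMap.rTensor_surjective Q (cov (syz M 0)).surj

/-- The successive cokernels. -/
noncomputable def cosyz (M : ModuleCat.{u} R) : ℕ → ModuleCat.{u} R
  | 0 => M
  | n + 1 => ModuleCat.of R (CharacterModule (CharacterModule (cosyz M n)) ⧸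
      LinearMap.range (PureExt.charEval R (cosyz M n)))

theorem exists_pureInj_resolution (M : ModuleCat.{u} R) :
    ∃ (I : CochainComplex (ModuleCat.{u} R) ℕ) (η : (CochainComplex.single₀ (ModuleCat.{u} R)).obj M ⟶ I),
      (∀ n : ℕ, PureInj (R := R) (I.X n)) ∧
      ∀ T : ModuleCat.{u} R, QuasiIso (((tensorRight T).mapHomologicalComplex (ComplexShape.up ℕ)).map η) := by
  let X : ℕ → ModuleCat.{u} R := fun n => ModuleCat.of R (CharacterModule (CharacterModule (cosyz M n)))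
  let ev : ∀ n, cosyz M n ⟶ X n := fun n => ModuleCat.ofHom (PureExt.charEval R (cosyz M n))
  let p : ∀ n, X n ⟶ cosyz M (n + 1) := fun n =>
    ModuleCat.ofHom (LinearMap.range (PureExt.charEval R (cosyz M n))).mkQ
  have hep : ∀ n, ev n ≫ p n = 0 := fun n => ModuleCat.hom_ext (LinearMap.range_mkQ_comp _)
  let d : ∀ n, X n ⟶ X (n + 1) := fun n => p n ≫ ev (n + 1)
  have hdd : ∀ n, d n ≫ d (n + 1) = 0 := fun n => by simp [d, reassoc_of% hep (n + 1)]
  let I := CochainComplex.of X d hdd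
  have hd : ∀ n, I.d n (n + 1) = d n := fun n => CochainComplex.of_d X d n
  let η : (CochainComplex.single₀ (ModuleCat.{u} R)).obj M ⟶ I :=
    (CochainComplex.fromSingle₀Equiv I M).symm ⟨ev 0, by
      rw [hd]
      show ev 0 ≫ p 0 ≫ ev 1 = 0
      rw [← Category.assoc, hep, zero_comp]⟩
  refine ⟨I, η, fun n => pureInj_characterModule _, (univExact_up_iff I η).2 fun Q _ _ => ?_⟩
  have hη : η.f 0 = ev 0 := by simp [η]
  have key : ∀ n, Function.Exact ((ev n).hom.rTensor Q) ((d n).hom.rTensor Q) := fun n x => by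
    show _ ↔ x ∈ Set.range ((PureExt.charEval R (cosyz M n)).rTensor Q)
    rw [← (rTensor_exact (R := R) Q (LinearMap.exact_map_mkQ_range (PureExt.charEval R (cosyz M n)))
      (Submodule.mkQ_surjective _)) x]
    show ((ev (n + 1)).hom ∘ₗ (p n).hom).rTensor Q x = 0 ↔ _
    rw [LinearMap.rTensor_comp, LinearMap.comp_apply]
    exact map_eq_zero_iff _ (univInj_charEval _ Q)
  refine ⟨fun n => ?_, ?_, ?_⟩
  · rw [hd, hd]
    intro x
    rw [key (n + 1) x]
    show _ ↔ x ∈ Set.range (((ev (n + 1)).hom ∘ₗ (p n).hom).rTensor Q)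
    rw [LinearMap.rTensor_comp, LinearMap.coe_comp]
    exact (Set.ext_iff.1 ((LinearMap.rTensor_surjective Q (Submodule.mkQ_surjective _)).range_comp _) x).symm
  · rw [hd, hη]; exact key 0
  · rw [hη]; exact univInj_charEval _ Q

end Groth.Misc3Pure
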